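import Mathlib
import Groth.Agent.Props12.FinLocFree

/-! A locally free module of rank `r` is free near a finite subset of an affine open. -/

set_option autoImplicit false
set_option backward.isDefEq.respectTransparency.types false

universe u

open CategoryTheory CategoryTheory.Limits AlgebraicGeometry TopologicalSpace
open scoped TensorProduct

namespace Groth.Agent.LocFreeLib

/-- A flat finitely presented module of constant rank on finitely many primes is free on a basic
open containing them. -/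
theorem exists_basis_away_of_finite_primes {B : Type u} [CommRing B] (M : Type u) [AddCommGroup M] [Module B M]
    [Module.FinitePresentation B M] [Module.Flat B M] {ι : Type*} [Finite ι] [Nonempty ι]
    (P : ι → Ideal B) [∀ i, (P i).IsPrime] (r : ℕ)
    (hr : ∀ i, Module.rankAtStalk M ⟨P i, inferInstance⟩ = r) :
    ∃ g : B, (∀ i, g ∉ P i) ∧
      Nonempty (Module.Basis (Fin r) (Localization (Submonoid.powers g)) (LocalizedModule.Away g M)) := by
  classical
  have := Fintype.ofFinite ι
  let S : Submonoid B := ⨅ i, (P i).primeCompl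
  have hS : ∀ {b}, b ∈ S ↔ ∀ i, b ∉ P i := fun {b} ↦ Submonoid.mem_iInf
  have h0 : (0 : B) ∉ S := fun h ↦ (hS.1 h (Classical.arbitrary ι)) (P _).zero_mem
  have : Nontrivial (Localization S) := ⟨⟨0, 1, fun h ↦ h0 ((IsLocalization.subsingleton_iff (R := B) (M := S) (S := Localization S)).1
    (subsingleton_of_zero_eq_one h))⟩⟩
  have hsub : ∀ q : Ideal B, Disjoint (S : Set B) q → ∃ i, q ≤ P i := fun q hq ↦ by
    have h : (q : Set B) ⊆ ⋃ i ∈ ((Finset.univ : Finset ι) : Set ι), (P i : Set B) := fun b hb ↦ by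
      have hb' : b ∉ S := fun h ↦ hq.le_bot ⟨h, hb⟩
      rw [hS] at hb'
      push Not at hb'
      obtain ⟨i, hi⟩ := hb'
      exact Set.mem_biUnion (by simp) hi
    obtain ⟨i, -, hi⟩ := (Ideal.subset_union_prime (Classical.arbitrary ι) (Classical.arbitrary ι)
      (fun i _ _ _ ↦ inferInstance)).1 h
    exact ⟨i, hi⟩
  have hmax : ∀ m : MaximalSpectrum (Localization S), ∃ i, m.1.comap (algebraMap B (Localization S)) = P i := fun m ↦ by
    have hm := (IsLocalization.isPrime_iff_isPrime_disjoint S (Localization S) m.1).1 m.2.isPrime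
    obtain ⟨i, hi⟩ := hsub _ hm.2
    have hd : Disjoint (S : Set B) (P i) := Set.disjoint_left.2 fun b hb hb' ↦ hS.1 hb i hb'
    have hp := IsLocalization.isPrime_of_isPrime_disjoint S (Localization S) (P i) inferInstance hd
    have hle : m.1 ≤ (P i).map (algebraMap B (Localization S)) := by
      rw [← IsLocalization.map_comap S (Localization S) m.1]
      exact Ideal.map_mono hi
    refine ⟨i, ?_⟩
    conv_lhs => rw [m.2.eq_of_le hp.ne_top hle]
    exact IsLocalization.comap_map_of_isPrime_disjoint S (Localization S) inferInstance hd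
  choose idx hidx using hmax
  have : Finite (MaximalSpectrum (Localization S)) := Finite.of_injective idx fun a b h ↦
    MaximalSpectrum.ext (by
      rw [← IsLocalization.map_comap S (Localization S) a.1, ← IsLocalization.map_comap S (Localization S) b.1]
      exact congrArg (Ideal.map _) ((hidx a).trans (h ▸ (hidx b).symm)))
  let M' := Localization S ⊗[B] M
  obtain ⟨b⟩ := Module.nonempty_basis_of_flat_of_finrank_eq (Localization S) M' r fun m ↦ by
    let := Ideal.Quotient.field m.1
    have h1 : Module.rankAtStalk M' (⟨m.1, m.2.isPrime⟩ : PrimeSpectrum (Localization S)) = r := by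
      rw [Module.rankAtStalk_baseChange]
      refine Eq.trans (congrArg (Module.rankAtStalk M) ?_) (hr (idx m))
      exact PrimeSpectrum.ext (hidx m)
    rw [Module.rankAtStalk_eq] at h1
    rw [← h1, ← Module.finrank_baseChange (R := m.1.ResidueField) (S := Localization S ⧸ m.1)
      (M' := (Localization S ⧸ m.1) ⊗[Localization S] M')]
    exact (TensorProduct.AlgebraTensorModule.cancelBaseChange (Localization S) (Localization S ⧸ m.1)
      m.1.ResidueField m.1.ResidueField M').finrank_eq
  obtain ⟨g, hg, b', -⟩ := Module.FinitePresentation.exists_basis_localizedModule_powers S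
    (TensorProduct.mk B (Localization S) M 1) (Localization S) b
  exact ⟨g, hS.1 hg, ⟨b'⟩⟩

variable {X : Scheme.{u}}

theorem isFinLocFree_of_rank {r : ℕ} {M : X.Modules} (h : FlatMod.IsFinLocFreeOfRank r M) :
    FlatMod.IsFinLocFree M := fun x ↦ by
  obtain ⟨U, hx, e⟩ := h x
  exact ⟨U, r, hx, e⟩

theorem isQCoh_of_isFinLocFreeOfRank {r : ℕ} {M : X.Modules} (h : FlatMod.IsFinLocFreeOfRank r M) :
    Coh.IsQCoh M := by
  choose U hU e using h
  exact Coherent.isQCoh_of_openImmersion_cover M (fun x ↦ (U x).ι)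
    (fun x ↦ ⟨x, by rw [Scheme.Opens.opensRange_ι]; exact hU x⟩) fun x ↦ by
    have := Coherent.isQCoh_freeMod (X := (U x : Scheme.{u})) (I := ULift.{u} (Fin r))
    exact Coherent.isQCoh_of_iso ((e x).some ≪≫ (Props12.freeModIso _ r).symm).symm

/-- A locally free module of rank `r` is free on a basic open containing a given finite subset of an affine open. -/
theorem exists_iso_freeMod_basicOpen {r : ℕ} {M : X.Modules} (h : FlatMod.IsFinLocFreeOfRank r M)
    {V : X.Opens} (hV : IsAffineOpen V) (Z : Set X) (hZ : Z.Finite) (hZV : Z ⊆ V) :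
    ∃ U : X.Opens, Z ⊆ U ∧ U ≤ V ∧ IsAffineOpen U ∧
      Nonempty (M.restrict U.ι ≅ FlatMod.freeMod U.toScheme r) := by
  rcases Z.eq_empty_or_nonempty with rfl | ⟨z₀, hz₀⟩
  · refine ⟨⊥, Set.empty_subset _, bot_le, isAffineOpen_bot X, ?_⟩
    have := isQCoh_of_isFinLocFreeOfRank h
    have : IsAffine (⊥ : X.Opens).toScheme := isAffineOpen_bot X
    have : Subsingleton Γ(X, (⊥ : X.Opens)) := inferInstance
    have : Subsingleton Γ(M, (⊥ : X.Opens)) := Module.subsingleton Γ(X, (⊥ : X.Opens)) _
    obtain ⟨b⟩ := Props12.exists_basis_restrict_top M (⊥ : X.Opens)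
      (Module.Basis.ofEquivFun (LinearEquiv.ofSubsingleton Γ(M, (⊥ : X.Opens)) (Fin r → Γ(X, (⊥ : X.Opens)))))
    exact Props12.exists_iso_freeMod_of_basis _ b
  have := isQCoh_of_isFinLocFreeOfRank h
  have hfin := isFinLocFree_of_rank h
  have hfp := Props12.isFP_of_isFinLocFree M hfin
  have := EGA43.QcohFP.finitePresentation_sections M hfp hV
  have : Module.Flat Γ(X, V) Γ(M, V) :=
    Props12.flat_sections_of_isFlat M (Props12.isFlat_of_isFinLocFree M hfin) hV
  have := hZ.to_subtype
  have : Nonempty Z := ⟨⟨z₀, hz₀⟩⟩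
  let P : Z → Ideal Γ(X, V) := fun z ↦ (hV.primeIdealOf ⟨z.1, hZV z.2⟩).asIdeal
  have : ∀ z, (P z).IsPrime := fun z ↦ (hV.primeIdealOf _).isPrime
  obtain ⟨g, hg, ⟨b⟩⟩ := exists_basis_away_of_finite_primes Γ(M, V) P r fun z ↦ by
    obtain ⟨W₀, hzW₀, ⟨e⟩⟩ := h z.1
    obtain ⟨W, hW, hzW, hWU⟩ := Opens.isBasis_iff_nbhd.mp X.isBasis_affineOpens hzW₀
    obtain ⟨c⟩ := Props12.exists_basis_sections e hWU
    have hstalk : Nonempty (Module.Basis (Fin r) (X.presheaf.stalk z.1) (M.presheaf.stalk z.1)) := by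
      let _ := (X.presheaf.germ W z.1 hzW).hom.toAlgebra
      let _ := Module.compHom (M.presheaf.stalk z.1) (X.presheaf.germ W z.1 hzW).hom
      have : IsScalarTower Γ(X, W) (X.presheaf.stalk z.1) (M.presheaf.stalk z.1) :=
        IsScalarTower.of_algebraMap_smul fun _ _ => rfl
      let φ : Γ(M, W) →ₗ[Γ(X, W)] M.presheaf.stalk z.1 :=
        { toFun := M.presheaf.germ W z.1 hzW
          map_add' := map_add _
          map_smul' := QCohLoc.germ_smul' (M := M) hzW }
      have := EGA43.QcohFP.isLocalizedModule_germ M hW hzW φ fun _ => rfl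
      have := hW.isLocalization_stalk ⟨z.1, hzW⟩
      exact ⟨c.ofIsLocalizedModule (X.presheaf.stalk z.1) (hW.primeIdealOf ⟨z.1, hzW⟩).asIdeal.primeCompl φ⟩
    obtain ⟨cs⟩ := hstalk
    let _ := (X.presheaf.germ V z.1 (hZV z.2)).hom.toAlgebra
    let _ := Module.compHom (M.presheaf.stalk z.1) (X.presheaf.germ V z.1 (hZV z.2)).hom
    have : IsScalarTower Γ(X, V) (X.presheaf.stalk z.1) (M.presheaf.stalk z.1) :=
      IsScalarTower.of_algebraMap_smul fun _ _ => rfl
    let φ : Γ(M, V) →ₗ[Γ(X, V)] M.presheaf.stalk z.1 :=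
      { toFun := M.presheaf.germ V z.1 (hZV z.2)
        map_add' := map_add _
        map_smul' := QCohLoc.germ_smul' (M := M) (hZV z.2) }
    have := EGA43.QcohFP.isLocalizedModule_germ M hV (hZV z.2) φ fun _ => rfl
    have := hV.isLocalization_stalk ⟨z.1, hZV z.2⟩
    have hb := IsLocalizedModule.isBaseChange (P z).primeCompl (X.presheaf.stalk z.1) φ
    have : Module.Free (X.presheaf.stalk z.1) (M.presheaf.stalk z.1) := .of_basis cs
    have h1 := Module.rankAtStalk_isBaseChange hb (IsLocalRing.closedPoint (X.presheaf.stalk z.1))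
    rw [Module.rankAtStalk_eq_finrank_of_free, Pi.natCast_apply, Nat.cast_id,
      Module.finrank_eq_card_basis cs, Fintype.card_fin] at h1
    refine Eq.trans (congrArg (Module.rankAtStalk Γ(M, V)) (PrimeSpectrum.ext ?_)) h1.symm
    exact (IsLocalization.AtPrime.under_maximalIdeal (X.presheaf.stalk z.1) (P z)).symm
  refine ⟨X.basicOpen g, fun z hz ↦ ?_, X.basicOpen_le g, hV.basicOpen g, ?_⟩
  · let _ := (X.presheaf.germ V z (hZV hz)).hom.toAlgebra
    have := hV.isLocalization_stalk ⟨z, hZV hz⟩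
    show z ∈ X.basicOpen g
    rw [Scheme.mem_basicOpen _ _ _ (hZV hz)]
    exact (IsLocalization.AtPrime.isUnit_to_map_iff (X.presheaf.stalk z) (P ⟨z, hz⟩) g).2 (hg ⟨z, hz⟩)
  let _ := (X.presheaf.map (homOfLE (X.basicOpen_le g)).op).hom.toAlgebra
  let _ := Module.compHom Γ(M, X.basicOpen g) (X.presheaf.map (homOfLE (X.basicOpen_le g)).op).hom
  have : IsScalarTower Γ(X, V) Γ(X, X.basicOpen g) Γ(M, X.basicOpen g) :=
    IsScalarTower.of_algebraMap_smul fun _ _ => rfl
  let ρ : Γ(M, V) →ₗ[Γ(X, V)] Γ(M, X.basicOpen g) :=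
    { toFun := Coherent.resM M (X.basicOpen_le g)
      map_add' := map_add _
      map_smul' := Coherent.resM_smul M _ }
  have := EGA43.QcohFP.isLocalizedModule_res M hV g ρ fun _ => rfl
  have := hV.isLocalization_basicOpen g
  let T : Submonoid Γ(X, V) := Submonoid.powers g
  let e₁ : Localization T ≃ₐ[Γ(X, V)] Γ(X, X.basicOpen g) := IsLocalization.algEquiv T _ _
  let l : LocalizedModule T Γ(M, V) ≃ₗ[Γ(X, V)] Γ(M, X.basicOpen g) := IsLocalizedModule.iso T ρ
  let _ := Module.compHom Γ(M, X.basicOpen g) e₁.toRingHom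
  have : IsScalarTower Γ(X, V) (Localization T) Γ(M, X.basicOpen g) :=
    IsScalarTower.of_algebraMap_smul fun a m => by
      change e₁ (algebraMap _ _ a) • m = _
      rw [AlgEquiv.commutes, algebraMap_smul]
  let b₁ := (b.map (l.extendScalarsOfIsLocalization T (Localization T))).mapCoeffs e₁.toRingEquiv
    fun _ _ => rfl
  obtain ⟨b'⟩ := Props12.exists_basis_restrict_top M _ b₁
  have : IsAffine (X.basicOpen g).toScheme := hV.basicOpen g
  exact Props12.exists_iso_freeMod_of_basis (M.restrict (X.basicOpen g).ι) b'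

/-- Locally free modules are free over the preimage of a small open under a finite morphism. -/
theorem exists_iso_freeMod_preimage {X' : Scheme.{u}} (f : X' ⟶ X) [IsFinite f] {r : ℕ} {F : X'.Modules}
    (hF : FlatMod.IsFinLocFreeOfRank r F) (x : X) :
    ∃ U : X.Opens, x ∈ U ∧ Nonempty (F.restrict (f ⁻¹ᵁ U).ι ≅ FlatMod.freeMod (↑(f ⁻¹ᵁ U)) r) := by
  obtain ⟨W, hW, hxW, -⟩ := exists_isAffineOpen_mem_and_subset (x := x) (U := ⊤) trivial
  obtain ⟨U', hU', hU'W, -, ⟨e⟩⟩ := exists_iso_freeMod_basicOpen hF (hW.preimage f) (f ⁻¹' {x})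
    (f.finite_preimage_singleton x) (fun z hz ↦ by show f z ∈ W; rw [show f z = x from hz]; exact hxW)
  let O : X.Opens := ⟨(f '' (U' : Set X')ᶜ)ᶜ, (f.isClosedMap _ U'.isOpen.isClosed_compl).isOpen_compl⟩
  have hxO : x ∈ O := by
    rintro ⟨z, hz, hzx⟩
    exact hz (hU' hzx)
  obtain ⟨U, hU, hxU, hUO⟩ := exists_isAffineOpen_mem_and_subset (x := x) (U := O) hxO
  refine ⟨U, hxU, ?_⟩
  have hle : f ⁻¹ᵁ U ≤ U' := fun z hz ↦ by
    by_contra h
    exact hUO hz ⟨z, h, rfl⟩
  have := isQCoh_of_isFinLocFreeOfRank hF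
  have : IsAffine (f ⁻¹ᵁ U).toScheme := hU.preimage f
  obtain ⟨b⟩ := Props12.exists_basis_sections e hle
  obtain ⟨b'⟩ := Props12.exists_basis_restrict_top F _ b
  exact Props12.exists_iso_freeMod_of_basis _ b'

end Groth.Agent.LocFreeLib
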